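import Groth.Agent.H06EGA14.EquidimCriteria
import Groth.Agent.H8Props.FieldDimEquidim
import Groth.Prelude.Def_EGA43
import Mathlib.AlgebraicGeometry.AlgClosed.Basic
import Mathlib.AlgebraicGeometry.Morphisms.FlatMono
import Mathlib.AlgebraicGeometry.Morphisms.Smooth

/-! Dimensions of local rings at closed points along fibres over rational points. -/

set_option autoImplicit false
set_option backward.isDefEq.respectTransparency false
universe u
open CategoryTheory CategoryTheory.Limits AlgebraicGeometry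

namespace Groth.Agent.H7Kleiman

theorem isOpenAt_of_isOpenMap {P B : Scheme.{u}} (f : P ⟶ B) (V : B.Opens) [UniversallyOpen (f ∣_ V)]
    {z : P} (hz : f z ∈ V) : EGA43.IsOpenAt f.base z := by
  intro O hO
  obtain ⟨O', hO'O, hO', hzO'⟩ := mem_nhds_iff.mp (Filter.inter_mem hO ((f ⁻¹ᵁ V).2.mem_nhds hz))
  refine Filter.mem_of_superset ?_ (Set.image_mono (hO'O.trans Set.inter_subset_left))
  refine IsOpen.mem_nhds ?_ ⟨z, hzO', rfl⟩
  have h1 : f.base '' O' = V.ι '' ((f ∣_ V) '' ((f ⁻¹ᵁ V).ι ⁻¹' O')) := by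
    rw [← Set.image_comp]
    have : (V.ι ∘ (f ∣_ V)) = f.base ∘ (f ⁻¹ᵁ V).ι := by
      funext w
      exact congrArg (fun φ : (f ⁻¹ᵁ V).toScheme ⟶ B => φ w) (morphismRestrict_ι f V)
    rw [this, Set.image_comp, Set.image_preimage_eq_of_subset]
    rw [Scheme.Opens.range_ι]
    exact fun w hw => (hO'O hw).2
  rw [h1]
  exact V.ι.isOpenEmbedding.isOpenMap _ ((f ∣_ V).isOpenMap _ (hO'.preimage (f ⁻¹ᵁ V).ι.continuous))

theorem isOpenAt_of_flat {P B : Scheme.{u}} (f : P ⟶ B) [Flat f] [LocallyOfFinitePresentation f]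
    (z : P) : EGA43.IsOpenAt f.base z := by
  intro O hO
  obtain ⟨O', hO'O, hO', hzO'⟩ := mem_nhds_iff.mp hO
  exact Filter.mem_of_superset ((f.isOpenMap _ hO').mem_nhds ⟨z, hzO', rfl⟩) (Set.image_mono hO'O)

variable {k : Type u} [Field k]

/-- The local dimension formula along the fibre over a rational point. -/
theorem stalk_dim_fibre [IsAlgClosed k] {P B F : Scheme.{u}} (f : P ⟶ B) [LocallyOfFiniteType f]
    (qB : B ⟶ Spec (CommRingCat.of k)) [LocallyOfFiniteType qB] [IsSeparated qB]
    {b : Spec (CommRingCat.of k) ⟶ B} (hb : b ≫ qB = 𝟙 _) {j : F ⟶ P} {c : F ⟶ Spec (CommRingCat.of k)}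
    (h : IsPullback j c f b)
    (hopen : ∀ z : P, f z = b (IsLocalRing.closedPoint k) → EGA43.IsOpenAt f.base z)
    (w : F) (hw : IsClosed ({w} : Set F)) :
    IsClosed ({j w} : Set P) ∧ f (j w) = b (IsLocalRing.closedPoint k) ∧
      ringKrullDim (P.presheaf.stalk (j w)) =
        ringKrullDim (B.presheaf.stalk (b (IsLocalRing.closedPoint k))) +
          ringKrullDim (F.presheaf.stalk w) := by
  haveI : IsClosedImmersion b := isClosedImmersion_of_comp_eq_id _ _ hb
  haveI : IsClosedImmersion j := MorphismProperty.of_isPullback h.flip ‹IsClosedImmersion b›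
  haveI : IsLocallyNoetherian B := LocallyOfFiniteType.isLocallyNoetherian qB
  haveI : IsLocallyNoetherian P := LocallyOfFiniteType.isLocallyNoetherian f
  have hfx : f (j w) = b (IsLocalRing.closedPoint k) := by
    rw [← Scheme.Hom.comp_apply, h.w, Scheme.Hom.comp_apply]
    exact congrArg b (Subsingleton.elim (α := PrimeSpectrum k) _ _)
  refine ⟨by simpa using j.isClosedEmbedding.isClosedMap _ hw, hfx, ?_⟩
  have hycl : IsClosed ({f (j w)} : Set B) := by
    rw [hfx]
    exact (pointEquivClosedPoint qB ⟨b, hb⟩).2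
  have hbp : b = pointOfClosedPoint qB (f (j w)) hycl :=
    ext_of_apply_closedPoint_eq qB hb (pointOfClosedPoint_comp _ _ _)
      (by rw [pointOfClosedPoint_apply, hfx])
  let ε := residueFieldIsoBase qB (f (j w)) hycl
  have hb' : Spec.map ε.inv ≫ b = B.fromSpecResidueField (f (j w)) := by
    rw [hbp, pointOfClosedPoint, ← Category.assoc, ← Spec.map_comp, Iso.hom_inv_id, Spec.map_id,
      Category.id_comp]
  let ε' : Spec (CommRingCat.of k) ≅ Spec (B.residueField (f (j w))) := Scheme.Spec.mapIso ε.op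
  have hsq : IsPullback j (c ≫ Spec.map ε.hom) f (B.fromSpecResidueField (f (j w))) := by
    refine h.of_iso (Iso.refl _) (Iso.refl _) ε' (Iso.refl _) ?_ ?_ ?_ ?_
    · simp
    · simp [ε']
    · simp
    · rw [Iso.refl_hom, Category.comp_id]
      show b = Spec.map ε.hom ≫ B.fromSpecResidueField (f (j w))
      rw [← hb', ← Category.assoc, ← Spec.map_comp, Iso.inv_hom_id, Spec.map_id, Category.id_comp]
  let e : F ≅ f.fiber (f (j w)) := hsq.isoPullback
  have he : e.hom ≫ f.fiberι (f (j w)) = j := hsq.isoPullback_hom_fst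
  have hew : e.hom w = f.asFiber (j w) := by
    apply (f.fiberι (f (j w))).isEmbedding.injective
    rw [← Scheme.Hom.comp_apply, he, f.fiberι_asFiber]
  rw [H06EGA14.ringKrullDim_stalk_eq_of_isOpenAt f (j w) fun z _ _ => hopen _ ?_]
  · refine congrArg₂ (· + ·) (congrArg (fun y => ringKrullDim (B.presheaf.stalk y)) hfx) ?_
    rw [← hew]
    exact ringKrullDim_eq_of_ringEquiv (asIso (e.hom.stalkMap w)).commRingCatIsoToRingEquiv
  · have : f.fiberι (f (j w)) z ∈ Set.range (f.fiberι (f (j w))) := ⟨z, rfl⟩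
    rw [f.range_fiberι] at this
    exact this.trans hfx

/-- In an irreducible scheme of finite type over a field closed points have local rings of full dimension. -/
theorem stalk_dim_of_isClosed {X : Scheme.{u}} (q : X ⟶ Spec (CommRingCat.of k))
    [LocallyOfFiniteType q] [IrreducibleSpace X] {x : X} (hx : IsClosed ({x} : Set X)) :
    ringKrullDim (X.presheaf.stalk x) = topologicalKrullDim X := by
  have h := H8Props.FieldDim.localDim_eq_stalk_add_cdim (k := k) q x
  rw [H8Props.FieldDim.localDim_eq_dim_of_irreducible (k := k) q x] at h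
  have hc : H8Props.FieldDim.cdim x = 0 := by
    show topologicalKrullDim (closure ({x} : Set X)) = 0
    rw [hx.closure_eq]
    refine le_antisymm (topologicalKrullDim_zero_of_discreteTopology ({x} : Set X)) ?_
    haveI : Nonempty (TopologicalSpace.IrreducibleCloseds ({x} : Set X)) :=
      ⟨⟨{⟨x, rfl⟩}, isIrreducible_singleton, isClosed_discrete _⟩⟩
    exact Order.krullDim_nonneg (α := TopologicalSpace.IrreducibleCloseds ({x} : Set X))
  rw [hc, add_zero] at h
  exact h.symm

/-- The dimension is read off at closed points. -/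
theorem topologicalKrullDim_eq_of_closed {X : Scheme.{u}} (q : X ⟶ Spec (CommRingCat.of k))
    [LocallyOfFiniteType q] [Nonempty X] (d : WithBot ℕ∞)
    (h : ∀ x : X, IsClosed ({x} : Set X) → ringKrullDim (X.presheaf.stalk x) = d) :
    topologicalKrullDim X = d := by
  haveI : JacobsonSpace X := LocallyOfFiniteType.jacobsonSpace q
  rw [H17.topologicalKrullDim_eq_krullDim_specialization X, Order.krullDim_eq_iSup_coheight]
  refine le_antisymm (iSup_le fun x => ?_) ?_
  · obtain ⟨g, hxg, hg⟩ := nonempty_inter_closedPoints (X := X) (Z := closure {x})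
      ⟨x, subset_closure rfl⟩ isClosed_closure.isLocallyClosed
    rw [← h g hg, ringKrullDim_stalk_eq_coheight]
    exact WithBot.coe_le_coe.mpr (Order.coheight_anti (specializes_iff_mem_closure.mpr hxg))
  · obtain ⟨g, -, hg⟩ := nonempty_inter_closedPoints (X := X) (Z := Set.univ)
      Set.univ_nonempty isClosed_univ.isLocallyClosed
    rw [← h g hg, ringKrullDim_stalk_eq_coheight]
    exact le_iSup (fun x : X => ((Order.coheight x : ℕ∞) : WithBot ℕ∞)) g

end Groth.Agent.H7Kleiman
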