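import Groth.Agent.H7Kleiman.GenSmooth
import Groth.Agent.H7Kleiman.Dim
import Groth.Agent.H19Grp.Cartier
import Groth.Prelude.Def_AlgGrp

/-! Kleiman transversality. -/

set_option autoImplicit false
set_option backward.isDefEq.respectTransparency false
set_option backward.defeqAttrib.useBackward true
universe u
open CategoryTheory CategoryTheory.Limits AlgebraicGeometry MonoidalCategory CartesianMonoidalCategory MonObj

namespace Groth.Agent.H7Kleiman

section act
variable {S : Scheme.{u}} {G X : Over S} [GrpObj G] (a : AlgGrp.Action G X)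

theorem act_act {T : Over S} (g h : T ⟶ G) (x : T ⟶ X) :
    lift g (lift h x ≫ a.act) ≫ a.act = lift (g * h) x ≫ a.act := by
  have := congrArg (fun φ => lift (lift g h) x ≫ φ) a.mul_act
  simp only [← Category.assoc, lift_whiskerRight, lift_lift_associator_hom, lift_whiskerLeft] at this
  exact this.symm

theorem one_act' {T : Over S} (x : T ⟶ X) : lift (1 : T ⟶ G) x ≫ a.act = x := by
  have := congrArg (fun φ => lift (toUnit T) x ≫ φ) a.one_act
  simp only [← Category.assoc, lift_whiskerRight, lift_leftUnitor_hom] at this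
  exact this

/-- Translation of `X` by a point. -/
noncomputable def transl (σ : 𝟙_ (Over S) ⟶ G) : X ⟶ X := lift (toUnit X ≫ σ) (𝟙 X) ≫ a.act

theorem comp_transl {T : Over S} (x : T ⟶ X) (σ : 𝟙_ (Over S) ⟶ G) :
    x ≫ transl a σ = lift (toUnit T ≫ σ) x ≫ a.act := by
  rw [transl, ← Category.assoc, comp_lift, comp_toUnit_assoc, Category.comp_id]

theorem transl_comp (σ τ : 𝟙_ (Over S) ⟶ G) : transl a σ ≫ transl a τ = transl a (τ * σ) := by
  rw [comp_transl, transl, act_act, transl, comp_mul]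

theorem transl_one : transl a (1 : 𝟙_ (Over S) ⟶ G) = 𝟙 X := by
  rw [transl, comp_one, one_act']

instance isIso_transl (σ : 𝟙_ (Over S) ⟶ G) : IsIso (transl a σ) :=
  ⟨transl a σ⁻¹, by rw [transl_comp, inv_mul_cancel, transl_one],
    by rw [transl_comp, mul_inv_cancel, transl_one]⟩

variable {T : Over S} (f : T ⟶ X)

/-- The orbit morphism. -/
noncomputable def orbit : G ⊗ T ⟶ X := lift (fst G T) (snd G T ≫ f) ≫ a.act

/-- Translation in the group factor. -/
noncomputable def translFst (τ : 𝟙_ (Over S) ⟶ G) : G ⊗ T ⟶ G ⊗ T :=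
  lift ((toUnit _ ≫ τ) * fst G T) (snd G T)

theorem translFst_orbit (τ : 𝟙_ (Over S) ⟶ G) :
    translFst τ ≫ orbit a f = orbit a f ≫ transl a τ := by
  rw [comp_transl, orbit, ← Category.assoc, comp_lift, act_act]
  simp [translFst]

theorem section_orbit (σ : 𝟙_ (Over S) ⟶ G) :
    lift (toUnit T ≫ σ) (𝟙 T) ≫ orbit a f = lift (toUnit T ≫ σ) f ≫ a.act := by
  unfold orbit
  rw [← Category.assoc, comp_lift, lift_fst, lift_snd_assoc, Category.id_comp]

end act

theorem exists_preimage {P X Y B : Scheme.{u}} {p₁ : P ⟶ X} {p₂ : P ⟶ Y} {f : X ⟶ B} {g : Y ⟶ B}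
    (h : IsPullback p₁ p₂ f g) (x : X) (y : Y) (e : f x = g y) : ∃ c : P, p₁ c = x ∧ p₂ c = y := by
  obtain ⟨c, h1, h2⟩ := Scheme.Pullback.exists_preimage_pullback x y e
  refine ⟨h.isoPullback.inv c, ?_, ?_⟩
  · rw [← Scheme.Hom.comp_apply, h.isoPullback_inv_fst]; exact h1
  · rw [← Scheme.Hom.comp_apply, h.isoPullback_inv_snd]; exact h2

variable {k : Type u} [Field k]

noncomputable def pt {X : Over (Spec (CommRingCat.of k))} [IsAlgClosed k] [LocallyOfFiniteType X.hom]
    {x : X.left} (hx : IsClosed ({x} : Set X.left)) : 𝟙_ (Over (Spec (CommRingCat.of k))) ⟶ X :=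
  Over.homMk (pointOfClosedPoint X.hom x hx) (pointOfClosedPoint_comp _ _ _)

theorem pt_apply {X : Over (Spec (CommRingCat.of k))} [IsAlgClosed k] [LocallyOfFiniteType X.hom]
    {x : X.left} (hx : IsClosed ({x} : Set X.left)) (z) : (pt hx).left z = x :=
  pointOfClosedPoint_apply _ _ _ _

/-- The orbit map of a nonempty variety in a homogeneous space is smooth. -/
theorem smooth_orbit [IsAlgClosed k] [CharZero k] (G X : Over (Spec (CommRingCat.of k))) [GrpObj G]
    (a : AlgGrp.Action G X) [LocallyOfFiniteType G.hom] [QuasiCompact G.hom]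
    [IsIntegral X.left] [IsSeparated X.hom] [LocallyOfFiniteType X.hom] [QuasiCompact X.hom]
    (htrans : ∀ x x' : 𝟙_ (Over (Spec (CommRingCat.of k))) ⟶ X,
      ∃ σ : 𝟙_ (Over (Spec (CommRingCat.of k))) ⟶ G, lift σ x ≫ a.act = x')
    (Y : Over (Spec (CommRingCat.of k))) [Smooth Y.hom] [QuasiCompact Y.hom] [Nonempty Y.left]
    (f : Y ⟶ X) : Smooth (orbit a f).left := by
  haveI : Smooth G.hom := H19Grp.smooth_of_charZero G
  haveI : Smooth (G ⊗ Y).hom := by rw [Over.tensorObj_hom]; infer_instance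
  haveI : QuasiCompact (G ⊗ Y).hom := by rw [Over.tensorObj_hom]; infer_instance
  set q := (orbit a f).left with hq
  have hqk : q ≫ X.hom = (G ⊗ Y).hom := Over.w _
  obtain ⟨V, hV, hVsm⟩ := exists_open_smooth k (G ⊗ Y).hom X.hom q hqk
  let O : (G ⊗ Y).left.Opens := q ⁻¹ᵁ V
  haveI hO : Smooth (O.ι ≫ q) := by
    rw [← morphismRestrict_ι]; infer_instance
  haveI : JacobsonSpace X.left := LocallyOfFiniteType.jacobsonSpace X.hom
  haveI : JacobsonSpace (G ⊗ Y).left := LocallyOfFiniteType.jacobsonSpace (G ⊗ Y).hom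
  haveI : LocallyOfFiniteType q := by
    haveI : LocallyOfFiniteType (q ≫ X.hom) := by rw [hqk]; infer_instance
    exact locallyOfFiniteType_of_comp q X.hom
  obtain ⟨v, hvV, hv⟩ := nonempty_inter_closedPoints hV V.2.isLocallyClosed
  let U : (𝟙_ (Over (Spec (CommRingCat.of k))) ⟶ G) → (G ⊗ Y).left.Opens :=
    fun τ => (translFst (T := Y) τ).left ⁻¹ᵁ O
  refine IsZariskiLocalAtSource.of_iSup_eq_top U ?_ fun τ => ?_
  · rw [eq_top_iff]
    intro z _
    by_contra hz
    obtain ⟨w, hw, hwc⟩ := nonempty_inter_closedPoints ⟨z, hz⟩ (iSup U).2.isClosed_compl.isLocallyClosed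
    have hx : IsClosed ({q w} : Set X.left) := q.closePoints_subset_preimage_closedPoints hwc
    obtain ⟨τ, hτ⟩ := htrans (pt hx) (pt hv)
    refine hw (TopologicalSpace.Opens.mem_iSup.mpr ⟨τ, ?_⟩)
    show q ((translFst (T := Y) τ).left w) ∈ V
    have h1 : (translFst (T := Y) τ).left ≫ q = q ≫ (transl a τ).left := by
      rw [hq, ← Over.comp_left, translFst_orbit, Over.comp_left]
    have h2 : pt hx ≫ transl a τ = pt hv := by
      rw [comp_transl, ← hτ, toUnit_unique (toUnit _) (𝟙 _), Category.id_comp]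
    rw [← Scheme.Hom.comp_apply, h1, Scheme.Hom.comp_apply, ← pt_apply hx (IsLocalRing.closedPoint k),
      ← Scheme.Hom.comp_apply, ← Over.comp_left, h2, pt_apply]
    exact hvV
  · have h1 : (translFst (T := Y) τ).left ≫ q ≫ (transl a τ⁻¹).left = q := by
      rw [hq, ← Over.comp_left, ← Over.comp_left, ← Category.assoc, translFst_orbit, Category.assoc,
        transl_comp, inv_mul_cancel, transl_one, Category.comp_id]
    haveI : IsIso (translFst (T := Y) τ) := by
      have key : ∀ τ τ' : 𝟙_ (Over (Spec (CommRingCat.of k))) ⟶ G, τ' * τ = 1 →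
          translFst (T := Y) τ ≫ translFst τ' = 𝟙 _ := fun τ τ' h => by
        rw [translFst, translFst, comp_lift, comp_mul, comp_toUnit_assoc, lift_fst, lift_snd,
          ← _root_.mul_assoc, ← comp_mul, h, comp_one, _root_.one_mul, lift_fst_snd]
      exact ⟨translFst τ⁻¹, key τ τ⁻¹ (inv_mul_cancel τ), key τ⁻¹ τ (mul_inv_cancel τ)⟩
    haveI : IsIso (translFst (T := Y) τ).left := (Over.forget (Spec (CommRingCat.of k))).map_isIso (translFst (T := Y) τ)
    haveI : IsIso (transl a τ⁻¹).left := (Over.forget (Spec (CommRingCat.of k))).map_isIso (transl a τ⁻¹)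
    rw [← h1, ← Category.assoc, ← morphismRestrict_ι, Category.assoc, ← Category.assoc O.ι]
    infer_instance

theorem natDim {Z : Scheme.{u}} (q : Z ⟶ Spec (CommRingCat.of k)) [LocallyOfFiniteType q]
    [IrreducibleSpace Z] : ∃ g : ℕ, topologicalKrullDim Z = g := by
  obtain ⟨s, hs⟩ := H8Props.FieldDim.exists_nat_localDim q (Nonempty.some inferInstance : Z)
  exact ⟨s, by rw [← hs, H8Props.FieldDim.localDim_eq_dim_of_irreducible (k := k) q]⟩

theorem withBot_nat_add_cancel {a : WithBot ℕ∞} {n N : ℕ} (h : (n : WithBot ℕ∞) + a = (N : WithBot ℕ∞)) :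
    ∃ t : ℕ, a = t ∧ n + t = N := by
  cases a with
  | bot => rw [WithBot.add_bot] at h; exact absurd h.symm (WithBot.natCast_ne_bot _)
  | coe b =>
    cases b with
    | top =>
      change ((n : ℕ∞) : WithBot ℕ∞) + ((⊤ : ℕ∞) : WithBot ℕ∞) = ((N : ℕ∞) : WithBot ℕ∞) at h
      rw [← WithBot.coe_add, add_top] at h
      exact absurd (WithBot.coe_injective h).symm (ENat.natCast_ne_top _)
    | coe t =>
      refine ⟨t, rfl, ?_⟩
      change ((n : ℕ∞) : WithBot ℕ∞) + ((t : ℕ∞) : WithBot ℕ∞) = ((N : ℕ∞) : WithBot ℕ∞) at h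
      rw [← WithBot.coe_add] at h
      exact_mod_cast WithBot.coe_injective h

theorem kleiman [IsAlgClosed k] [CharZero k] (G X : Over (Spec (CommRingCat.of k))) [GrpObj G]
    (a : AlgGrp.Action G X)
    [IsIntegral G.left] [IsSeparated G.hom] [LocallyOfFiniteType G.hom] [QuasiCompact G.hom]
    [IsIntegral X.left] [IsSeparated X.hom] [LocallyOfFiniteType X.hom] [QuasiCompact X.hom]
    (htrans : ∀ x x' : 𝟙_ (Over (Spec (CommRingCat.of k))) ⟶ X,
      ∃ σ : 𝟙_ (Over (Spec (CommRingCat.of k))) ⟶ G, lift σ x ≫ a.act = x')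
    (Y : Over (Spec (CommRingCat.of k))) {Z : Scheme.{u}} (f : Y ⟶ X) (g : Z ⟶ X.left)
    [IsIntegral Y.left] [IsSeparated Y.hom] [QuasiCompact Y.hom] [Smooth Y.hom]
    [IsIntegral Z] [IsSeparated (g ≫ X.hom)] [QuasiCompact (g ≫ X.hom)] [Smooth (g ≫ X.hom)]
    (n r s : ℕ) (hn : topologicalKrullDim ↥X.left = n) (hr : topologicalKrullDim ↥Y.left = r)
    (hs : topologicalKrullDim ↥Z = s) :
    ∃ V : G.left.Opens, (V : Set ↥G.left).Nonempty ∧
      ∀ σ : 𝟙_ (Over (Spec (CommRingCat.of k))) ⟶ G, Set.range σ.left.base ⊆ (V : Set ↥G.left) →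
        ∀ fσ : Y.left ⟶ X.left, fσ = (lift (toUnit Y ≫ σ) f ≫ a.act).left →
          Smooth (pullback.fst fσ g ≫ Y.hom) ∧
            (IsEmpty ↥(pullback fσ g) ∨ (n ≤ r + s ∧
              topologicalKrullDim ↥(pullback fσ g) = ((r + s - n : ℕ) : WithBot ℕ∞))) := by
  haveI : Smooth G.hom := H19Grp.smooth_of_charZero G
  haveI hqs : Smooth (orbit a f).left := smooth_orbit G X a htrans Y f
  set q := (orbit a f).left with hq
  let φ : (G ⊗ Y).left ⟶ G.left := (fst G Y).left
  have hφ : IsPullback φ (snd G Y).left G.hom Y.hom := IsPullback.of_hasPullback G.hom Y.hom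
  haveI : Smooth φ := MorphismProperty.of_isPullback hφ.flip ‹Smooth Y.hom›
  haveI : QuasiCompact φ := MorphismProperty.of_isPullback hφ.flip ‹QuasiCompact Y.hom›
  let W := pullback q g
  let π : W ⟶ G.left := pullback.fst q g ≫ φ
  have hW : π ≫ G.hom = pullback.snd q g ≫ g ≫ X.hom := by
    show (pullback.fst q g ≫ φ) ≫ G.hom = _
    rw [Category.assoc, show φ ≫ G.hom = q ≫ X.hom from (Over.w (fst G Y)).trans (Over.w (orbit a f)).symm,
      pullback.condition_assoc]
  haveI : LocallyOfFiniteType g := locallyOfFiniteType_of_comp g X.hom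
  haveI : QuasiCompact g := QuasiCompact.of_comp g X.hom
  haveI : QuasiCompact π := MorphismProperty.comp_mem _ _ _ inferInstance inferInstance
  haveI : Smooth (π ≫ G.hom) := by rw [hW]; infer_instance
  haveI : LocallyOfFiniteType π := locallyOfFiniteType_of_comp π G.hom
  obtain ⟨V, hV, hVsm⟩ := exists_open_smooth k (π ≫ G.hom) G.hom π rfl
  refine ⟨V, hV, fun σ hσ fσ hfσ => ?_⟩
  let σY : Y ⟶ G ⊗ Y := lift (toUnit Y ≫ σ) (𝟙 Y)
  let sY : Y.left ⟶ (G ⊗ Y).left := σY.left
  have hσk : σ.left ≫ G.hom = 𝟙 _ := Over.w σ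
  have hsY₁ : sY ≫ φ = Y.hom ≫ σ.left := by
    show (σY ≫ fst G Y).left = _
    rw [lift_fst, Over.comp_left]; rfl
  have hsY₂ : sY ≫ (snd G Y).left = 𝟙 _ := by
    show (σY ≫ snd G Y).left = _
    rw [lift_snd]; rfl
  have hY : IsPullback sY Y.hom φ σ.left := by
    refine IsPullback.of_right ?_ hsY₁ hφ.flip
    rw [hsY₂, hσk]
    exact IsPullback.id_horiz Y.hom
  have hf' : sY ≫ q = fσ := by
    rw [hfσ, ← section_orbit, Over.comp_left]
  subst hf'
  let j : pullback (sY ≫ q) g ⟶ W :=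
    pullback.map (sY ≫ q) g q g sY (𝟙 _) (𝟙 _) (by simp) (by simp)
  have hj : IsPullback j (pullback.fst (sY ≫ q) g) (pullback.fst q g) sY := by
    refine (IsPullback.of_right ?_ ?_ (IsPullback.of_hasPullback q g).flip).flip |>.flip
    · rw [show j ≫ pullback.snd q g = pullback.snd (sY ≫ q) g by simp [j]]
      exact (IsPullback.of_hasPullback (sY ≫ q) g).flip
    · simp [j]
  have hF : IsPullback j (pullback.fst (sY ≫ q) g ≫ Y.hom) π σ.left := hj.paste_vert hY
  refine ⟨?_, ?_⟩
  · let σV : Spec (CommRingCat.of k) ⟶ V :=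
      IsOpenImmersion.lift V.ι σ.left (by rw [Scheme.Opens.range_ι]; exact hσ)
    have hσV : σV ≫ V.ι = σ.left := IsOpenImmersion.lift_fac _ _ _
    let jV : pullback (sY ≫ q) g ⟶ π ⁻¹ᵁ V :=
      IsOpenImmersion.lift (π ⁻¹ᵁ V).ι j (by
        rw [Scheme.Opens.range_ι]
        rintro _ ⟨w, rfl⟩
        show π (j w) ∈ V
        rw [← Scheme.Hom.comp_apply, hF.w, Scheme.Hom.comp_apply]
        exact hσ ⟨_, rfl⟩)
    have hjV : jV ≫ (π ⁻¹ᵁ V).ι = j := IsOpenImmersion.lift_fac _ _ _
    have h0 : IsPullback jV (pullback.fst (sY ≫ q) g ≫ Y.hom) (π ∣_ V) σV := by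
      refine IsPullback.of_right ?_ ?_ (isPullback_morphismRestrict π V).flip
      · rw [hjV, hσV]; exact hF
      · rw [← cancel_mono V.ι, Category.assoc, morphismRestrict_ι, ← Category.assoc, hjV,
          Category.assoc, hσV]
        exact hF.w
    exact MorphismProperty.of_isPullback h0 hVsm
  · rcases isEmpty_or_nonempty ↥(pullback (sY ≫ q) g) with h | h
    · exact Or.inl h
    right
    haveI : LocallyOfFiniteType (pullback.fst (sY ≫ q) g ≫ Y.hom) :=
      MorphismProperty.of_isPullback hF ‹LocallyOfFiniteType π›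
    obtain ⟨dG, hdG⟩ := natDim G.hom
    have key : ∀ w : ↥(pullback (sY ≫ q) g), IsClosed ({w} : Set ↥(pullback (sY ≫ q) g)) →
        ∃ t : ℕ, ringKrullDim ((pullback (sY ≫ q) g).presheaf.stalk w) = t ∧ n + t = r + s := by
      intro w hw
      obtain ⟨hwc, hwσ, hdim⟩ := stalk_dim_fibre π G.hom hσk hF (fun z hz => isOpenAt_of_isOpenMap π V
        (hz ▸ hσ ⟨_, rfl⟩)) w hw
      have hσc : IsClosed ({σ.left (IsLocalRing.closedPoint k)} : Set G.left) :=
        (pointEquivClosedPoint G.hom ⟨σ.left, hσk⟩).2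
      replace hdim := hdim.trans (congrArg (· + _) ((stalk_dim_of_isClosed G.hom hσc).trans hdG))
      set w₁ := j w
      haveI : JacobsonSpace Z := LocallyOfFiniteType.jacobsonSpace (g ≫ X.hom)
      haveI : JacobsonSpace G.left := LocallyOfFiniteType.jacobsonSpace G.hom
      haveI : JacobsonSpace X.left := LocallyOfFiniteType.jacobsonSpace X.hom
      -- along `W → Z`
      have hz : IsClosed ({pullback.snd q g w₁} : Set Z) :=
        (pullback.snd q g).closePoints_subset_preimage_closedPoints hwc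
      let z₀ := pointOfClosedPoint (g ≫ X.hom) _ hz
      have hz₀ : z₀ ≫ g ≫ X.hom = 𝟙 _ := pointOfClosedPoint_comp _ _ _
      let F₂ := pullback q (z₀ ≫ g)
      let j₂ : F₂ ⟶ W := pullback.lift (pullback.fst q (z₀ ≫ g)) (pullback.snd q (z₀ ≫ g) ≫ z₀)
        (by rw [pullback.condition, Category.assoc])
      have h₂ : IsPullback j₂ (pullback.snd q (z₀ ≫ g)) (pullback.snd q g) z₀ := by
        refine IsPullback.of_right ?_ (pullback.lift_snd _ _ _) (IsPullback.of_hasPullback q g) |>.flip |>.flip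
        rw [pullback.lift_fst]
        exact IsPullback.of_hasPullback q (z₀ ≫ g)
      obtain ⟨w₂, hw₂⟩ : w₁ ∈ Set.range j₂ := by
        have hcl : pullback.snd q g w₁ ∈ Set.range z₀ := ⟨IsLocalRing.closedPoint k, pointOfClosedPoint_apply _ _ _ _⟩
        obtain ⟨b, hb⟩ := hcl
        obtain ⟨c, hc, -⟩ := exists_preimage h₂ w₁ b hb.symm
        exact ⟨c, hc⟩
      haveI : IsClosedImmersion z₀ := isClosedImmersion_of_comp_eq_id _ _ hz₀
      haveI : IsClosedImmersion j₂ := MorphismProperty.of_isPullback h₂.flip ‹IsClosedImmersion z₀›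
      have hw₂c : IsClosed ({w₂} : Set F₂) := by
        have : ({w₂} : Set F₂) = j₂ ⁻¹' {w₁} := Set.ext fun c =>
          ⟨fun hc => by rw [Set.mem_singleton_iff.mp hc]; exact hw₂,
           fun hc => j₂.isClosedEmbedding.injective (hc.trans hw₂.symm)⟩
        rw [this]; exact hwc.preimage j₂.continuous
      obtain ⟨-, -, hd₂⟩ := stalk_dim_fibre (pullback.snd q g) (g ≫ X.hom) hz₀ h₂
        (fun c _ => isOpenAt_of_flat _ c) w₂ hw₂c
      rw [hw₂, hdim] at hd₂
      replace hd₂ := hd₂.trans (congrArg (· + _)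
        ((congrArg (fun c => ringKrullDim (Z.presheaf.stalk c)) (pointOfClosedPoint_apply _ _ _ _)).trans
          ((stalk_dim_of_isClosed (g ≫ X.hom) hz).trans hs)))
      -- along `G × Y → X`
      have hx₀ : (z₀ ≫ g) ≫ X.hom = 𝟙 _ := by rw [Category.assoc]; exact hz₀
      haveI : LocallyOfFiniteType q := inferInstance
      obtain ⟨hpc, -, hd₃⟩ := stalk_dim_fibre q X.hom hx₀ (IsPullback.of_hasPullback q (z₀ ≫ g))
        (fun c _ => isOpenAt_of_flat _ c) w₂ hw₂c
      replace hd₃ := hd₃.trans (congrArg (· + _)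
        ((stalk_dim_of_isClosed X.hom (pointEquivClosedPoint X.hom ⟨_, hx₀⟩).2).trans hn))
      -- along `G × Y → G`
      set p := pullback.fst q (z₀ ≫ g) w₂
      have hgm : IsClosed ({φ p} : Set G.left) := φ.closePoints_subset_preimage_closedPoints hpc
      let gm : 𝟙_ (Over (Spec (CommRingCat.of k))) ⟶ G := pt hgm
      let sg : Y.left ⟶ (G ⊗ Y).left := (lift (toUnit Y ≫ gm) (𝟙 Y)).left
      have hg₁ : sg ≫ φ = Y.hom ≫ gm.left := by
        show (lift (toUnit Y ≫ gm) (𝟙 Y) ≫ fst G Y).left = _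
        rw [lift_fst, Over.comp_left]; rfl
      have hg₂ : sg ≫ (snd G Y).left = 𝟙 _ := by
        show (lift (toUnit Y ≫ gm) (𝟙 Y) ≫ snd G Y).left = _
        rw [lift_snd]; rfl
      have hY' : IsPullback sg Y.hom φ gm.left := by
        refine IsPullback.of_right ?_ hg₁ hφ.flip
        rw [hg₂, show gm.left ≫ G.hom = 𝟙 _ from Over.w gm]
        exact IsPullback.id_horiz Y.hom
      obtain ⟨y, hy, -⟩ := exists_preimage hY' p (IsLocalRing.closedPoint k)
        (pt_apply hgm _).symm
      haveI : Subsingleton ↥((𝟙_ (Over (Spec (CommRingCat.of k)))).left) :=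
        inferInstanceAs (Subsingleton (PrimeSpectrum k))
      haveI : IsClosedImmersion gm.left := isClosedImmersion_of_comp_eq_id G.hom gm.left (Over.w gm)
      haveI : IsClosedImmersion sg := MorphismProperty.of_isPullback hY'.flip ‹IsClosedImmersion gm.left›
      have hyc : IsClosed ({y} : Set Y.left) := by
        have : ({y} : Set Y.left) = sg ⁻¹' {p} := Set.ext fun c =>
          ⟨fun hc => by rw [Set.mem_singleton_iff.mp hc]; exact hy,
           fun hc => sg.isClosedEmbedding.injective (hc.trans hy.symm)⟩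
        rw [this]; exact hpc.preimage sg.continuous
      obtain ⟨-, -, hd₄⟩ := stalk_dim_fibre φ G.hom (Over.w gm) hY' (fun c _ => isOpenAt_of_flat _ c) y hyc
      rw [hy, hd₃] at hd₄
      replace hd₄ := hd₄.trans (congrArg₂ (· + ·)
        ((congrArg (fun c => ringKrullDim (G.left.presheaf.stalk c)) (pt_apply hgm _)).trans
          ((stalk_dim_of_isClosed G.hom hgm).trans hdG))
        ((stalk_dim_of_isClosed Y.hom hyc).trans hr))
      rw [← Nat.cast_add] at hd₄
      obtain ⟨e, he, hne⟩ := withBot_nat_add_cancel hd₄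
      rw [he, ← Nat.cast_add] at hd₂
      obtain ⟨t, ht, hgt⟩ := withBot_nat_add_cancel hd₂
      exact ⟨t, ht, by omega⟩
    haveI : JacobsonSpace ↥(pullback (sY ≫ q) g) :=
      LocallyOfFiniteType.jacobsonSpace (pullback.fst (sY ≫ q) g ≫ Y.hom)
    obtain ⟨w, -, hw⟩ := nonempty_inter_closedPoints (X := ↥(pullback (sY ≫ q) g)) (Z := Set.univ)
      Set.univ_nonempty isClosed_univ.isLocallyClosed
    obtain ⟨t, -, ht⟩ := key w hw
    refine ⟨by omega, topologicalKrullDim_eq_of_closed (pullback.fst (sY ≫ q) g ≫ Y.hom) _ fun x hx => ?_⟩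
    obtain ⟨t', ht', h'⟩ := key x hx
    rw [ht']
    exact congrArg Nat.cast (show t' = r + s - n by omega)

end Groth.Agent.H7Kleiman
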